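import Cfsg.Agent.H648.Loc.Value_m3
import Cfsg.Agent.CharactersDeep.ColumnBessel
import Cfsg.Agent.J3Type.CharTools
import Cfsg.Agent.Characters.SchurBound
import Cfsg.Agent.Schreier.ChevIso_m3
import Cfsg.Agent.S2546
import Cfsg.Agent.H559.USixSpec_m3
import Cfsg.Agent.H732.USixDiag
import Cfsg.Agent.H237.EvenFi
import Cfsg.Agent.CpAutFiSeven.None
import Cfsg.Agent.Fischer.Fi23Simple
import Cfsg.Agent.FastGrp
import Cfsg.Agent.Prune
set_option linter.all false

section
prune_inst 0x7f00000000000000000000000000000000000000000000000000000000000000000000000000000000000000000000000000000000000000000000000000000000000000000000000000000000000000003fffffffffffffffffffffffffffbeffbdffffffff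

-- part: H657/FourFi/Fi22
section
set_option linter.all false
open scoped Cfsg.Agent.FastGrp

-- part: H657/FourFi/Sev
section
/-!
# The class of elements of prime order `r`, `|G|` divisible by `r` exactly once

`Sev r G` : `G` has elements of order `r`, they are all conjugate, and the class is not nilpotent modulo two.
The property passes from a quotient by a central 2-group, from a normal subgroup containing
the elements of order `r`, and from the centraliser of an abelian 2-subgroup.
-/

set_option autoImplicit false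

open Cfsg

namespace Cfsg.Agent.H657.FourFi

open Cfsg.Agent.Blocks.LocalRing
open Cfsg.Agent.Blocks
open Cfsg.Agent.Characters.Core
open Cfsg.Agent.H652.Four

universe u v

/-- the elements of order `r` form one class, not nilpotent modulo two -/
structure Sev (r : ℕ) (G : Type u) [Group G] : Prop where
  ex : ∃ x : G, orderOf x = r
  conj : ∀ x y : G, orderOf x = r → orderOf y = r → IsConj x y
  nn : ∀ M : Ideal AlgInt, IsPModular 2 M → ∀ x : G, orderOf x = r → NN M (cl x)

theorem isConj_orderOf {G : Type*} [Group G] {x y : G} (h : IsConj x y) : orderOf y = orderOf x := by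
  obtain ⟨c, rfl⟩ := isConj_iff.1 h
  exact MulEquiv.orderOf_eq (MulAut.conj c) x

/-- the restriction of `cl x` to a subgroup in which the elements of order `r` form one class -/
theorem cl_restrict {G : Type u} [Group G] {r : ℕ} {H : Subgroup G}
    (hc : ∀ x y : H, orderOf x = r → orderOf y = r → IsConj x y) {x : H} (hx : orderOf x = r) :
    (fun h : H => cl (x : G) (h : G)) = cl x := by
  funext h
  by_cases hh : IsConj (x : G) (h : G)
  · rw [cl_pos hh, cl_pos]
    apply hc x h hx
    rw [← Subgroup.orderOf_coe, isConj_orderOf hh, Subgroup.orderOf_coe, hx]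
  · rw [cl_neg hh, cl_neg]
    intro h'
    exact hh (H.subtype.map_isConj h')

/-- from the centraliser of an abelian 2-subgroup -/
theorem Sev.nn_of_cent {G : Type u} [Group G] [Finite G] {r : ℕ} {P : Subgroup G} (hP : IsPGroup 2 P)
    (hPC : P ≤ Subgroup.centralizer (P : Set G)) (h : Sev r (Subgroup.centralizer (P : Set G)))
    {M : Ideal AlgInt} (hM : IsPModular 2 M) {x : G} (hx : orderOf x = r)
    (hxP : x ∈ Subgroup.centralizer (P : Set G)) : NN M (cl x) := by
  refine NN.brauer hM hP hPC (fun g y => ?_) ?_ ?_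
  · exact cl_conj x y g
  · intro g
    by_cases hg : IsConj x g
    · rw [cl_pos hg]
      simpa using memLocalRing_natCast hM 1
    · rw [cl_neg hg]
      simpa using memLocalRing_natCast hM 0
  · have e := cl_restrict h.conj (x := ⟨x, hxP⟩) (by rw [Subgroup.orderOf_mk, hx])
    rw [show (fun h : Subgroup.centralizer (P : Set G) => cl x (h : G)) =
      cl (⟨x, hxP⟩ : Subgroup.centralizer (P : Set G)) from e]
    exact h.nn M hM _ (by rw [Subgroup.orderOf_mk, hx])

/-- from a normal subgroup -/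
theorem Sev.of_normal {G : Type u} [Group G] [Finite G] {r : ℕ} {N : Subgroup G} [N.Normal]
    (hN : ∀ x : G, orderOf x = r → x ∈ N) (h : Sev r N) : Sev r G where
  ex := by
    obtain ⟨x, hx⟩ := h.ex
    exact ⟨x, by rw [Subgroup.orderOf_coe, hx]⟩
  conj x y hx hy := by
    have := h.conj ⟨x, hN x hx⟩ ⟨y, hN y hy⟩ (by rw [Subgroup.orderOf_mk, hx])
      (by rw [Subgroup.orderOf_mk, hy])
    exact N.subtype.map_isConj this
  nn M hM x hx := by
    refine NN.normal (N := N) (fun g y => cl_conj x y g) ?_ ?_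
    · intro g hg
      refine cl_neg fun hc => hg (hN g ?_)
      rw [isConj_orderOf hc, hx]
    · have e := cl_restrict h.conj (x := ⟨x, hN x hx⟩) (by rw [Subgroup.orderOf_mk, hx])
      rw [show (fun n : N => cl x (n : G)) = cl (⟨x, hN x hx⟩ : N) from e]
      exact h.nn M hM _ (by rw [Subgroup.orderOf_mk, hx])

/-- from a quotient by a central 2-group -/
theorem Sev.of_quot {G : Type u} [Group G] [Finite G] {Q : Type v} [Group Q] {r : ℕ} (hr : r.Prime)
    (hr2 : r ≠ 2) {φ : G →* Q}
    (hφ : Function.Surjective φ) (hker : φ.ker ≤ Subgroup.center G) (hp : IsPGroup 2 φ.ker)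
    (h : Sev r Q) : Sev r G := by
  have hcop : Nat.Coprime r 2 := (Nat.coprime_primes hr Nat.prime_two).2 hr2
  have hord : ∀ x : G, orderOf x = r → orderOf (φ x) = r := by
    intro x hx
    have h1 : orderOf (φ x) ∣ r := hx ▸ orderOf_map_dvd φ x
    rcases (Nat.dvd_prime hr).1 h1 with h2 | h2
    · exfalso
      have h3 : x ∈ φ.ker := orderOf_eq_one_iff.1 h2
      obtain ⟨k, hk⟩ := hp ⟨x, h3⟩
      have hk' : x ^ 2 ^ k = 1 := by simpa only [_root_.SubmonoidClass.mk_pow, _root_.OneMemClass.coe_one] using congrArg Subtype.val hk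
      have h4 : orderOf x ∣ 2 ^ k := orderOf_dvd_of_pow_eq_one hk'
      rw [hx] at h4
      exact hr.one_lt.ne' (Nat.eq_one_of_dvd_coprimes (Nat.Coprime.pow_right k hcop) dvd_rfl h4)
    · exact h2
  refine ⟨?_, ?_, ?_⟩
  · obtain ⟨q, hq⟩ := h.ex
    have hf : Fact r.Prime := ⟨hr⟩
    have : Finite Q := Finite.of_surjective φ hφ
    refine exists_prime_orderOf_dvd_card' r ?_
    refine dvd_trans ?_ (Subgroup.card_dvd_of_surjective φ hφ)
    rw [← hq]
    exact orderOf_dvd_natCard q
  · intro x y hx hy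
    obtain ⟨c, hc⟩ := isConj_iff.1 (h.conj _ _ (hord x hx) (hord y hy))
    obtain ⟨c, rfl⟩ := hφ c
    rw [isConj_iff]
    refine ⟨c, ?_⟩
    set w := c * x * c⁻¹ with hw
    have hwo : orderOf w = r := by rw [hw, isConj_orderOf (isConj_iff.2 ⟨c, rfl⟩), hx]
    have hz' : y⁻¹ * w ∈ φ.ker := by
      rw [MonoidHom.mem_ker, map_mul, map_inv, hw, map_mul, map_mul, map_inv, hc, inv_mul_cancel]
    set z := y⁻¹ * w with hz
    have hwz : w = y * z := by rw [hz]; group
    have hzc : Commute y z := Subgroup.mem_center_iff.1 (hker hz') y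
    obtain ⟨k, hk⟩ := hp ⟨z, hz'⟩
    have hk' : z ^ 2 ^ k = 1 := by simpa only [_root_.SubmonoidClass.mk_pow, _root_.OneMemClass.coe_one] using congrArg Subtype.val hk
    have h1 : (y * z) ^ r = 1 := by rw [← hwz, ← hwo]; exact pow_orderOf_eq_one _
    have h0 : y ^ r = 1 := by rw [← hy]; exact pow_orderOf_eq_one _
    rw [hzc.mul_pow, h0, one_mul] at h1
    have h2 : orderOf z ∣ r := orderOf_dvd_of_pow_eq_one h1
    have h3 : orderOf z ∣ 2 ^ k := orderOf_dvd_of_pow_eq_one hk'
    have h4 : orderOf z = 1 := Nat.eq_one_of_dvd_coprimes (Nat.Coprime.pow_right k hcop) h2 h3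
    rw [hwz, orderOf_eq_one_iff.1 h4, mul_one]
  · intro M hM x hx
    refine NN.quot_central hφ hker hp (by rw [hx]; exact hcop) (h.nn M hM _ (hord x hx))

/-- Sylow: if `r` divides `|G|` exactly once it is enough that a subgroup has one class -/
theorem conj_of_sub {G : Type u} [Group G] [Finite G] {r : ℕ} (hr : r.Prime) (h2 : ¬ r ^ 2 ∣ Nat.card G)
    {H : Subgroup G} (hex : ∃ x : H, orderOf x = r)
    (hc : ∀ x y : H, orderOf x = r → orderOf y = r → IsConj x y) (x y : G) (hx : orderOf x = r)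
    (hy : orderOf y = r) : IsConj x y := by
  obtain ⟨z, hz⟩ := hex
  have key : ∀ x : G, orderOf x = r → IsConj (z : G) x := by
    intro x hx
    have hf : Fact r.Prime := ⟨hr⟩
    have hsyl : ∀ a : G, orderOf a = r → ∃ P : Sylow r G, (P : Subgroup G) = Subgroup.zpowers a := by
      intro a ha
      have hcard : Nat.card (Subgroup.zpowers a) = r := by rw [Nat.card_zpowers, ha]
      have hp : IsPGroup r (Subgroup.zpowers a) := IsPGroup.of_card (n := 1) (by rw [hcard, pow_one])
      obtain ⟨P, hP⟩ := hp.exists_le_sylow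
      refine ⟨P, (Subgroup.eq_of_le_of_card_ge hP ?_).symm⟩
      obtain ⟨n, hn⟩ := P.2.exists_card_eq
      rw [hcard, hn]
      by_contra hlt
      apply h2
      have h3 : 2 ≤ n := by
        by_contra h4
        apply hlt
        have h5 : n ≤ 1 := by omega
        calc r ^ n ≤ r ^ 1 := Nat.pow_le_pow_right hr.pos h5
          _ = r := pow_one r
      exact (pow_dvd_pow r h3).trans (hn ▸ Subgroup.card_subgroup_dvd_card (P : Subgroup G))
    obtain ⟨P, hP⟩ := hsyl x hx
    obtain ⟨Q, hQ⟩ := hsyl (z : G) (by rw [Subgroup.orderOf_coe, hz])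
    obtain ⟨g, hg⟩ := MulAction.exists_smul_eq G P Q
    have h1 : g * x * g⁻¹ ∈ Subgroup.zpowers (z : G) := by
      have h0 : x ∈ (P : Subgroup G) := by rw [hP]; exact Subgroup.mem_zpowers x
      rw [← hQ, ← hg, Sylow.coe_subgroup_smul]
      exact Subgroup.smul_mem_pointwise_smul x (MulAut.conj g) (P : Subgroup G) h0
    have h2 : g * x * g⁻¹ ∈ H := by
      have : Subgroup.zpowers (z : G) ≤ H := by
        rw [Subgroup.zpowers_le]
        exact z.2
      exact this h1
    have h3 : orderOf (g * x * g⁻¹) = r := by rw [isConj_orderOf (isConj_iff.2 ⟨g, rfl⟩), hx]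
    have h4 := hc z ⟨_, h2⟩ hz (by rw [Subgroup.orderOf_mk, h3])
    have h5 : IsConj (z : G) (g * x * g⁻¹) := H.subtype.map_isConj h4
    exact h5.trans (isConj_iff.2 ⟨g⁻¹, by group⟩)
  exact (key x hx).symm.trans (key y hy)

theorem Sev.of_cent {G : Type u} [Group G] [Finite G] {r : ℕ} (hr : r.Prime)
    (h2 : ¬ r ^ 2 ∣ Nat.card G) {P : Subgroup G} (hP : IsPGroup 2 P)
    (hPC : P ≤ Subgroup.centralizer (P : Set G)) (h : Sev r (Subgroup.centralizer (P : Set G))) :
    Sev r G where
  ex := by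
    obtain ⟨x, hx⟩ := h.ex
    exact ⟨x, by rw [Subgroup.orderOf_coe, hx]⟩
  conj := conj_of_sub hr h2 h.ex h.conj
  nn M hM x hx := by
    obtain ⟨z, hz⟩ := h.ex
    have hzo : orderOf (z : G) = r := by rw [Subgroup.orderOf_coe, hz]
    have h1 := h.nn_of_cent hP hPC hM (x := z) hzo z.2
    obtain ⟨c, rfl⟩ := isConj_iff.1 (conj_of_sub hr h2 h.ex h.conj (z : G) x hzo hx)
    have e : cl (c * (z : G) * c⁻¹) = cl (z : G) := by
      funext g
      by_cases hg : IsConj (z : G) g
      · rw [cl_pos hg, cl_pos]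
        exact (isConj_iff.2 ⟨c, rfl⟩ : IsConj (z : G) (c * z * c⁻¹)).symm.trans hg
      · rw [cl_neg hg, cl_neg]
        intro hg'
        exact hg ((isConj_iff.2 ⟨c, rfl⟩ : IsConj (z : G) (c * z * c⁻¹)).trans hg')
    rw [e]
    exact h1

/-- transport -/
theorem Sev.of_equiv {G : Type u} [Group G] [Finite G] {Q : Type v} [Group Q] {r : ℕ} (e : G ≃* Q)
    (h : Sev r Q) : Sev r G where
  ex := by
    obtain ⟨x, hx⟩ := h.ex
    exact ⟨e.symm x, by rw [MulEquiv.orderOf_eq, hx]⟩
  conj x y hx hy := by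
    have := h.conj (e x) (e y) (by rw [MulEquiv.orderOf_eq, hx]) (by rw [MulEquiv.orderOf_eq, hy])
    have h2 := (e.symm.toMonoidHom).map_isConj this
    simpa only [_root_.isConj_iff, _root_.MulEquiv.toMonoidHom_eq_coe, _root_.MonoidHom.coe_coe, _root_.MulEquiv.symm_apply_apply] using h2
  nn M hM x hx := NN.of_equiv e (h.nn M hM (e x) (by rw [MulEquiv.orderOf_eq, hx]))

end Cfsg.Agent.H657.FourFi
end

-- part: H657/FourFi/SelfCent
section
/-!
# Elements of order seven which generate their own centraliser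

If `|G|` is divisible by 7 exactly once, `|G| / 7 ≡ -1` mod 7, and every element of order divisible by 7 has
order 7, then `|C(x)| = 7` for every `x` of order 7 and `x` is conjugate to its powers.  If moreover `G` has an
irreducible character whose degree is the 2-part of `|G|` (and `≡ 1` mod 7), then `Sev 7 G`.
-/

set_option autoImplicit false

open Cfsg

namespace Cfsg.Agent.H657.FourFi

open Cfsg.Agent.Blocks.LocalRing
open Cfsg.Agent.Blocks
open Cfsg.Agent.Characters.Core
open Cfsg.Agent.H652.Four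

universe u v

section

variable {G : Type u} [Group G] [Finite G]

theorem card_cent {r : ℕ} (hr : r.Prime) (h2 : ¬ r ^ 2 ∣ Nat.card G)
    (h7 : ∀ x : G, r ∣ orderOf x → x ^ r = 1) {x : G} (hx : orderOf x = r) :
    Nat.card (Subgroup.centralizer ({x} : Set G)) = r := by
  set C := Subgroup.centralizer ({x} : Set G) with hC
  have hpos : 0 < Nat.card C := Nat.card_pos
  have hxC : x ∈ C := Subgroup.mem_centralizer_singleton_iff.2 rfl
  have hdvd : r ∣ Nat.card C := by
    rw [← hx, ← Subgroup.orderOf_mk x hxC]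
    exact orderOf_dvd_natCard _
  have huniq : ∀ {s : ℕ}, s.Prime → s ∣ Nat.card C → s = r := by
    intro s hs hsd
    by_contra hne
    have hf : Fact s.Prime := ⟨hs⟩
    obtain ⟨y, hy⟩ := exists_prime_orderOf_dvd_card' (G := C) s hsd
    have hy' : orderOf (y : G) = s := by rw [Subgroup.orderOf_coe, hy]
    have hcomm : Commute (y : G) x := Subgroup.mem_centralizer_singleton_iff.1 y.2
    have hcop : (orderOf (y : G)).Coprime (orderOf x) := by
      rw [hy', hx]
      exact (Nat.coprime_primes hs hr).2 hne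
    have hord : orderOf ((y : G) * x) = s * r := by
      rw [hcomm.orderOf_mul_eq_mul_orderOf_of_coprime hcop, hy', hx]
    have h1 := h7 ((y : G) * x) (by rw [hord]; exact dvd_mul_left r s)
    have h3 : s * r ∣ r := by
      rw [← hord]
      exact orderOf_dvd_of_pow_eq_one h1
    have h4 := Nat.le_of_dvd hr.pos h3
    have h5 := hs.two_le
    have h6 := hr.pos
    nlinarith only [h4, h5, h6]
  obtain ⟨n, hn⟩ : ∃ n, Nat.card C = r ^ n :=
    ⟨_, Nat.eq_prime_pow_of_unique_prime_dvd hpos.ne' huniq⟩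
  rcases n with _ | _ | n
  · rw [hn, pow_zero] at hdvd
    exact absurd (Nat.dvd_one.1 hdvd) hr.one_lt.ne'
  · rw [hn, zero_add, pow_one]
  · exfalso
    apply h2
    refine dvd_trans (pow_dvd_pow r (by omega : 2 ≤ n + 1 + 1)) ?_
    rw [← hn]
    exact Subgroup.card_subgroup_dvd_card C

/-- a subgroup acts by conjugation on the class of `x` -/
@[instance_reducible] def conjAct (P : Subgroup G) (x : G) : MulAction P {y : G // IsConj x y} where
  smul p y := ⟨p * y * (p : G)⁻¹, y.2.trans (isConj_iff.2 ⟨p, rfl⟩)⟩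
  one_smul y := Subtype.ext (by
    show ((1 : P) : G) * y * ((1 : P) : G)⁻¹ = y
    simp)
  mul_smul a b y := Subtype.ext (by
    show ((a * b : P) : G) * y * ((a * b : P) : G)⁻¹ = a * (b * y * (b : G)⁻¹) * (a : G)⁻¹
    push_cast
    group)

theorem card_class (x : G) :
    Nat.card {y : G // IsConj x y} = (Subgroup.centralizer ({x} : Set G)).index := by
  classical
  have := Fintype.ofFinite G
  have h := CliffordCentral.card_class_eq_index x
  rw [← Nat.cast_inj (R := ℂ), ← h, Nat.card_eq_fintype_card, Fintype.card_subtype]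

/-- `x` is conjugate to the other generators of `⟨x⟩` -/
theorem isConj_of_mem {r : ℕ} (hr : r.Prime)
    {x : G} (hx : orderOf x = r) (hc : Nat.card (Subgroup.centralizer ({x} : Set G)) = r)
    (hm : (Subgroup.centralizer ({x} : Set G)).index % r = r - 1) {y : G}
    (hy : y ∈ Subgroup.zpowers x) (hy1 : y ≠ 1) : IsConj x y := by
  classical
  have hf : Fact r.Prime := ⟨hr⟩
  set P := Subgroup.zpowers x with hP
  have hcardP : Nat.card P = r := by rw [hP, Nat.card_zpowers, hx]
  have hPp : IsPGroup r P := IsPGroup.of_card (n := 1) (by rw [hcardP, pow_one])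
  have hCP : Subgroup.centralizer ({x} : Set G) = P := by
    symm
    apply Subgroup.eq_of_le_of_card_ge
    · rw [hP, Subgroup.zpowers_le, Subgroup.mem_centralizer_singleton_iff]
    · rw [hc, hcardP]
  let _ := conjAct P x
  have h1 := hPp.card_modEq_card_fixedPoints {y : G // IsConj x y}
  rw [card_class] at h1
  -- the fixed points lie in `P`
  have hfix : ∀ z : {y : G // IsConj x y}, z ∈ MulAction.fixedPoints P {y : G // IsConj x y} →
      (z : G) ∈ P := by
    intro z hz
    rw [← hCP, Subgroup.mem_centralizer_singleton_iff]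
    have h2 := congrArg Subtype.val (hz ⟨x, Subgroup.mem_zpowers x⟩)
    have h3 : x * (z : G) * x⁻¹ = z := h2
    rw [mul_inv_eq_iff_eq_mul] at h3
    exact h3.symm
  let f : MulAction.fixedPoints P {y : G // IsConj x y} → {y : P // y ≠ 1} := fun z =>
    ⟨⟨z.1.1, hfix z.1 z.2⟩, by
      intro h
      have h4 : (z.1.1 : G) = 1 := congrArg Subtype.val h
      have h5 := isConj_orderOf z.1.2
      rw [h4, orderOf_one, hx] at h5
      exact hr.one_lt.ne h5⟩
  have hfinj : Function.Injective f := by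
    intro a b hab
    have h6 : (a.1.1 : G) = b.1.1 := congrArg (fun t => ((t : {y : P // y ≠ 1}).1 : G)) hab
    exact Subtype.ext (Subtype.ext h6)
  have hcardT : Nat.card {y : P // y ≠ 1} = r - 1 := by
    have := Fintype.ofFinite P
    rw [Nat.card_eq_fintype_card, Fintype.card_subtype_compl, ← Nat.card_eq_fintype_card, hcardP]
    simp
  have hle : Nat.card (MulAction.fixedPoints P {y : G // IsConj x y}) ≤ r - 1 := by
    rw [← hcardT]
    exact Nat.card_le_card_of_injective f hfinj
  have heq : Nat.card (MulAction.fixedPoints P {y : G // IsConj x y}) = r - 1 := by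
    have h7 : Nat.card (MulAction.fixedPoints P {y : G // IsConj x y}) % r = r - 1 := by
      rw [← hm]
      exact h1.symm
    rwa [Nat.mod_eq_of_lt (lt_of_le_of_lt hle (Nat.sub_lt hr.pos one_pos))] at h7
  have hbij : Function.Bijective f := by
    rw [Nat.bijective_iff_injective_and_card]
    exact ⟨hfinj, by rw [heq, hcardT]⟩
  obtain ⟨z, hz⟩ := hbij.2 ⟨⟨y, hy⟩, fun h => hy1 (congrArg Subtype.val h)⟩
  have h8 : (z.1.1 : G) = y := congrArg (fun t => ((t : {y : P // y ≠ 1}).1 : G)) hz
  rw [← h8]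
  exact z.1.2

/-- all elements of order `r` are conjugate -/
theorem isConj_all {r : ℕ} (hr : r.Prime) (h2 : ¬ r ^ 2 ∣ Nat.card G) {x : G} (hx : orderOf x = r)
    (h : ∀ y ∈ Subgroup.zpowers x, y ≠ 1 → IsConj x y) (a b : G) (ha : orderOf a = r)
    (hb : orderOf b = r) : IsConj a b := by
  have key : ∀ a : G, orderOf a = r → IsConj x a := by
    intro a ha
    have hf : Fact r.Prime := ⟨hr⟩
    have hsyl : ∀ a : G, orderOf a = r → ∃ P : Sylow r G, (P : Subgroup G) = Subgroup.zpowers a := by
      intro a ha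
      have hcard : Nat.card (Subgroup.zpowers a) = r := by rw [Nat.card_zpowers, ha]
      have hp : IsPGroup r (Subgroup.zpowers a) := IsPGroup.of_card (n := 1) (by rw [hcard, pow_one])
      obtain ⟨P, hP⟩ := hp.exists_le_sylow
      refine ⟨P, (Subgroup.eq_of_le_of_card_ge hP ?_).symm⟩
      obtain ⟨n, hn⟩ := P.2.exists_card_eq
      rw [hcard, hn]
      by_contra hlt
      apply h2
      have h3 : 2 ≤ n := by
        by_contra h4
        apply hlt
        have h5 : n ≤ 1 := by omega
        calc r ^ n ≤ r ^ 1 := Nat.pow_le_pow_right hr.pos h5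
          _ = r := pow_one r
      exact (pow_dvd_pow r h3).trans (hn ▸ Subgroup.card_subgroup_dvd_card (P : Subgroup G))
    obtain ⟨P, hP⟩ := hsyl a ha
    obtain ⟨Q, hQ⟩ := hsyl x hx
    obtain ⟨g, hg⟩ := MulAction.exists_smul_eq G P Q
    have h1 : g * a * g⁻¹ ∈ Subgroup.zpowers x := by
      have h0 : a ∈ (P : Subgroup G) := by rw [hP]; exact Subgroup.mem_zpowers a
      rw [← hQ, ← hg, Sylow.coe_subgroup_smul]
      exact Subgroup.smul_mem_pointwise_smul a (MulAut.conj g) (P : Subgroup G) h0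
    have h4 : g * a * g⁻¹ ≠ 1 := by
      intro h5
      have h6 := isConj_orderOf (isConj_iff.2 ⟨g, rfl⟩ : IsConj a (g * a * g⁻¹))
      rw [h5, orderOf_one, ha] at h6
      exact hr.one_lt.ne h6
    exact (h _ h1 h4).trans (isConj_iff.2 ⟨g⁻¹, by group⟩)
  exact (key a ha).symm.trans (key b hb)

/-- the value of a character of degree `≡ 1` mod 7 -/
theorem value_seven {x : G} (hx : orderOf x = 7)
    (hc : Nat.card (Subgroup.centralizer ({x} : Set G)) = 7)
    (h : ∀ y ∈ Subgroup.zpowers x, y ≠ 1 → IsConj x y) (θ : IrrCharacter G) {d : ℕ}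
    (hd : (θ : G → ℂ) 1 = d) (hd1 : d % 7 = 1) : (θ : G → ℂ) x = 1 := by
  have hpow : ∀ m : ℕ, m.Coprime 7 → IsConj x (x ^ m) := by
    intro m hm
    refine h _ (Subgroup.npow_mem_zpowers x m) ?_
    intro h1
    have h2 : 7 ∣ m := by rw [← hx]; exact orderOf_dvd_of_pow_eq_one h1
    have h3 := Nat.Coprime.eq_one_of_dvd hm.symm h2
    omega
  obtain ⟨k, hk⟩ := Cfsg.Agent.J3Type.CharTools.int_of_conj (isIrr_isCharacter θ.2) x
    (fun m hm => hpow m (by rwa [hx] at hm))
  obtain ⟨e, -, he⟩ := Cfsg.Agent.Characters.SchurBound.exists_sum_range (isIrr_isCharacter θ.2) hd x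
  rw [hx] at he
  have hv : ∀ m : ℕ, m.Coprime 7 → (θ : G → ℂ) (x ^ m) = k := by
    intro m hm
    rw [← hk]
    exact Basic.irr_isConj θ.2 (hpow m hm).symm
  simp only [Finset.sum_range_succ, Finset.sum_range_zero, zero_add, pow_zero, hd] at he
  rw [hv 1 (by norm_num), hv 2 (by norm_num), hv 3 (by norm_num), hv 4 (by norm_num),
    hv 5 (by norm_num), hv 6 (by norm_num)] at he
  have he' : (d : ℤ) + 6 * k = 7 * e := by
    have : ((d : ℤ) + 6 * k : ℂ) = ((7 : ℤ) * (e : ℤ) : ℂ) := by
      push_cast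
      push_cast at he
      linear_combination he
    exact_mod_cast this
  have hb := Cfsg.Agent.CharactersDeep.ColumnBessel.sum_norm_sq_le ({θ} : Finset (IrrCharacter G)) x
  rw [Finset.sum_singleton, hc, hk] at hb
  have hb2 : k ^ 2 ≤ 7 := by
    have h1 : ‖(k : ℂ)‖ ^ 2 = ((k ^ 2 : ℤ) : ℝ) := by
      rw [Complex.norm_intCast, sq_abs]
      push_cast
      ring
    rw [h1] at hb
    exact_mod_cast hb
  have hk1 : k ≤ 2 := by nlinarith only [hb2]
  have hk2 : -2 ≤ k := by nlinarith only [hb2]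
  have hk3 : k = 1 := by
    have hdz : (d : ℤ) % 7 = 1 := by exact_mod_cast hd1
    omega
  rw [hk, hk3]
  norm_num

/-- **The start.** -/
theorem sev_of_steinberg (h2 : ¬ 7 ^ 2 ∣ Nat.card G) (h7 : ∀ x : G, 7 ∣ orderOf x → x ^ 7 = 1)
    {a m : ℕ} (hcard : Nat.card G = 7 * (2 ^ a * m)) (hm : ¬ 2 ∣ m) (hm7 : (2 ^ a * m) % 7 = 6)
    (ha7 : 2 ^ a % 7 = 1)
    (hθ : ∃ θ : G → ℂ, IsIrrCharacter G θ ∧ θ 1 = ((2 ^ a : ℕ) : ℂ)) : Sev 7 G := by
  have h7p : Nat.Prime 7 := by norm_num
  have hf : Fact (Nat.Prime 7) := ⟨h7p⟩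
  have hidx : ∀ x : G, orderOf x = 7 → (Subgroup.centralizer ({x} : Set G)).index = 2 ^ a * m := by
    intro x hx
    have h1 := (Subgroup.centralizer ({x} : Set G)).card_mul_index
    rw [card_cent h7p h2 h7 hx, hcard] at h1
    exact Nat.eq_of_mul_eq_mul_left (by norm_num) h1
  have hz : ∀ x : G, orderOf x = 7 → ∀ y ∈ Subgroup.zpowers x, y ≠ 1 → IsConj x y :=
    fun x hx y hy hy1 => isConj_of_mem h7p hx (card_cent h7p h2 h7 hx) (by rw [hidx x hx, hm7]) hy hy1
  refine ⟨exists_prime_orderOf_dvd_card' 7 (by rw [hcard]; exact dvd_mul_right _ _), ?_, ?_⟩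
  · intro x y hx hy
    exact isConj_all h7p h2 hx (hz x hx) x y hx hy
  · intro M hM x hx
    obtain ⟨θ, hθ, hθ1⟩ := hθ
    have hv := value_seven hx (card_cent h7p h2 h7 hx) (hz x hx) ⟨θ, hθ⟩ hθ1 ha7
    refine NN.of_int hM ⟨θ, hθ⟩ (n := m) ?_ (by exact_mod_cast hm)
    rw [Basic.centralChar_def, hv]
    show ((Subgroup.centralizer ({x} : Set G)).index : ℂ) * 1 / θ 1 = _
    rw [hidx x hx, hθ1]
    have h20 : ((2 ^ a : ℕ) : ℂ) ≠ 0 := by
      rw [Nat.cast_ne_zero]
      positivity
    push_cast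
    push_cast at h20
    field_simp

end

end Cfsg.Agent.H657.FourFi
end

-- part: H657/FourFi/Dv
section
/-!
# The 2-part of the length of the class of elements of order `r`
-/

set_option autoImplicit false

open Cfsg

namespace Cfsg.Agent.H657.FourFi

open Cfsg.Agent.Blocks.LocalRing
open Cfsg.Agent.Blocks
open Cfsg.Agent.Characters.Core
open Cfsg.Agent.H652.Four
open Subgroup

universe u v

/-- `2 ^ k` divides the length of the class of every element of order `r` -/
def Dv (r k : ℕ) (G : Type u) [Group G] : Prop :=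
  ∀ x : G, orderOf x = r → 2 ^ k ∣ (centralizer ({x} : Set G)).index

theorem index_centralizer_equiv {G : Type u} [Group G] {Q : Type v} [Group Q] (e : G ≃* Q) (x : G) :
    (centralizer ({x} : Set G)).index = (centralizer ({e x} : Set Q)).index := by
  have e1 : centralizer ({x} : Set G) = (centralizer ({e x} : Set Q)).comap e.toMonoidHom := by
    ext g
    rw [mem_comap, mem_centralizer_singleton_iff, mem_centralizer_singleton_iff]
    constructor
    · intro h
      show e g * e x = e x * e g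
      rw [← map_mul, h, map_mul]
    · intro h
      apply e.injective
      rw [map_mul, map_mul]
      exact h
  rw [e1, index_comap_of_surjective _ e.surjective]

theorem Dv.of_equiv {G : Type u} [Group G] {Q : Type v} [Group Q] {r k : ℕ} (e : G ≃* Q)
    (h : Dv r k Q) : Dv r k G := by
  intro x hx
  rw [index_centralizer_equiv e]
  exact h (e x) (by rw [MulEquiv.orderOf_eq, hx])

/-- `Loc` across universes -/
theorem loc_of {G : Type u} [Group G] {r k : ℕ} (h : Sev r G) (h' : Dv r k G) (hk : 2 ≤ k) : Loc G := by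
  obtain ⟨x, hx⟩ := h.ex
  refine ⟨x, ?_, fun M hM => h.nn M hM x hx⟩
  refine dvd_trans ?_ (h' x hx)
  exact pow_dvd_pow 2 hk

/-- the image of an element of order `r` in a quotient by a 2-group has order `r` -/
theorem orderOf_image {G : Type u} [Group G] {Q : Type v} [Group Q] {r : ℕ} (hr : r.Prime)
    (hr2 : r ≠ 2) {φ : G →* Q} (hp : IsPGroup 2 φ.ker) {x : G} (hx : orderOf x = r) :
    orderOf (φ x) = r := by
  have hcop : Nat.Coprime r 2 := (Nat.coprime_primes hr Nat.prime_two).2 hr2
  have h1 : orderOf (φ x) ∣ r := hx ▸ orderOf_map_dvd φ x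
  rcases (Nat.dvd_prime hr).1 h1 with h2 | h2
  · exfalso
    have h3 : x ∈ φ.ker := orderOf_eq_one_iff.1 h2
    obtain ⟨k, hk⟩ := hp ⟨x, h3⟩
    have hk' : x ^ 2 ^ k = 1 := by simpa only [_root_.SubmonoidClass.mk_pow, _root_.OneMemClass.coe_one] using congrArg Subtype.val hk
    have h4 : orderOf x ∣ 2 ^ k := orderOf_dvd_of_pow_eq_one hk'
    rw [hx] at h4
    exact hr.one_lt.ne' (Nat.eq_one_of_dvd_coprimes (Nat.Coprime.pow_right k hcop) dvd_rfl h4)
  · exact h2

/-- the class lengths in `G` and in a quotient by a central 2-group are the same -/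
theorem index_quot {G : Type u} [Group G] {Q : Type v} [Group Q] {r : ℕ} (hr : r.Prime)
    (hr2 : r ≠ 2) {φ : G →* Q}
    (hφ : Function.Surjective φ) (hker : φ.ker ≤ center G) (hp : IsPGroup 2 φ.ker)
    {x : G} (hx : orderOf x = r) :
    (centralizer ({x} : Set G)).index = (centralizer ({φ x} : Set Q)).index := by
  have hcop : Nat.Coprime r 2 := (Nat.coprime_primes hr Nat.prime_two).2 hr2
  have e1 : centralizer ({x} : Set G) = (centralizer ({φ x} : Set Q)).comap φ := by
    ext g
    rw [mem_comap, mem_centralizer_singleton_iff, mem_centralizer_singleton_iff]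
    constructor
    · intro h
      rw [← map_mul, h, map_mul]
    · intro h
      set w := g * x * g⁻¹ with hw
      have hwo : orderOf w = r := by rw [hw, isConj_orderOf (isConj_iff.2 ⟨g, rfl⟩), hx]
      have hz' : x⁻¹ * w ∈ φ.ker := by
        rw [MonoidHom.mem_ker, map_mul, map_inv, hw, map_mul, map_mul, map_inv, h]
        group
      set z := x⁻¹ * w with hz
      have hwz : w = x * z := by rw [hz]; group
      have hzc : Commute x z := mem_center_iff.1 (hker hz') x
      obtain ⟨k, hk⟩ := hp ⟨z, hz'⟩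
      have hk' : z ^ 2 ^ k = 1 := by simpa only [_root_.SubmonoidClass.mk_pow, _root_.OneMemClass.coe_one] using congrArg Subtype.val hk
      have h1 : (x * z) ^ r = 1 := by rw [← hwz, ← hwo]; exact pow_orderOf_eq_one _
      have h0 : x ^ r = 1 := by rw [← hx]; exact pow_orderOf_eq_one _
      rw [hzc.mul_pow, h0, one_mul] at h1
      have h2 : orderOf z ∣ r := orderOf_dvd_of_pow_eq_one h1
      have h3 : orderOf z ∣ 2 ^ k := orderOf_dvd_of_pow_eq_one hk'
      have h4 : orderOf z = 1 := Nat.eq_one_of_dvd_coprimes (Nat.Coprime.pow_right k hcop) h2 h3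
      rw [orderOf_eq_one_iff.1 h4, mul_one, hw] at hwz
      exact mul_inv_eq_iff_eq_mul.1 hwz
  rw [e1, index_comap_of_surjective _ hφ]

theorem Dv.of_quot {G : Type u} [Group G] {Q : Type v} [Group Q] {r k : ℕ} (hr : r.Prime)
    (hr2 : r ≠ 2) {φ : G →* Q}
    (hφ : Function.Surjective φ) (hker : φ.ker ≤ center G) (hp : IsPGroup 2 φ.ker)
    (h : Dv r k Q) : Dv r k G := by
  intro x hx
  rw [index_quot hr hr2 hφ hker hp hx]
  exact h _ (orderOf_image hr hr2 hp hx)

theorem Dv.of_normal {G : Type u} [Group G] [Finite G] {r k : ℕ} {N : Subgroup G} [N.Normal]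
    (hN : ∀ x : G, orderOf x = r → x ∈ N) (h : Dv r k N) : Dv r k G := by
  intro x hx
  have h1 := h ⟨x, hN x hx⟩ (by rw [orderOf_mk, hx])
  have e : centralizer ({(⟨x, hN x hx⟩ : N)} : Set N) = (centralizer ({x} : Set G)).subgroupOf N := by
    ext n
    rw [mem_subgroupOf, mem_centralizer_singleton_iff, mem_centralizer_singleton_iff]
    constructor
    · intro h2
      exact congrArg Subtype.val h2
    · intro h2
      exact Subtype.ext h2
  rw [e] at h1
  refine h1.trans ?_
  set K := centralizer ({x} : Set G) with hK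
  show K.relIndex N ∣ K.index
  have h2 : (K ⊓ N).relIndex N * N.index = (K ⊓ N).index := relIndex_mul_index inf_le_right
  have h3 : (K ⊓ N).relIndex K * K.index = (K ⊓ N).index := relIndex_mul_index inf_le_left
  rw [inf_relIndex_right] at h2
  rw [inf_relIndex_left] at h3
  obtain ⟨c, hc⟩ := relIndex_dvd_index_of_normal N K
  have h4 : N.relIndex K ≠ 0 := index_ne_zero_of_finite
  refine ⟨c, ?_⟩
  apply Nat.eq_of_mul_eq_mul_left (Nat.pos_of_ne_zero h4)
  rw [h3, ← h2, hc]
  ring

/-- bound for the number of conjugates of `t` under `H` -/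
theorem relIndex_le_of_conj {G : Type u} [Group G] [Finite G] {H : Subgroup G} {t : G} {s : Set G}
    (hs : ∀ c ∈ H, c * t * c⁻¹ ∈ s) : (centralizer ({t} : Set G)).relIndex H ≤ s.ncard := by
  classical
  rw [relIndex, index, ← Nat.card_coe_set_eq]
  let f : (H ⧸ (centralizer ({t} : Set G)).subgroupOf H) → s := fun q =>
    ⟨(Quotient.out q : H) * t * ((Quotient.out q : H) : G)⁻¹, hs _ (Quotient.out q : H).2⟩
  apply Nat.card_le_card_of_injective f
  intro p q hpq
  have h1 : ((Quotient.out p : H) : G) * t * ((Quotient.out p : H) : G)⁻¹ =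
      ((Quotient.out q : H) : G) * t * ((Quotient.out q : H) : G)⁻¹ := congrArg Subtype.val hpq
  rw [← QuotientGroup.out_eq' p, ← QuotientGroup.out_eq' q, QuotientGroup.eq, mem_subgroupOf,
    mem_centralizer_singleton_iff]
  push_cast
  have h2 := congrArg (fun y => ((Quotient.out p : H) : G)⁻¹ * y * ((Quotient.out q : H) : G)) h1
  simp only [mul_assoc, inv_mul_cancel_left, inv_mul_cancel, mul_one] at h2
  simp only [mul_assoc]
  exact h2.symm

/-- arithmetic -/
theorem dvd_of_mul {a b c w k e l : ℕ} (h : a * b = c * w) (hb0 : b ≠ 0) (hb : b < 2 ^ (l + 1))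
    (hc : 2 ^ e ∣ c) (hw : 2 ^ k ∣ w) {m : ℕ} (hm : m + l ≤ k + e) : 2 ^ m ∣ a := by
  obtain ⟨j, b', hb', hj⟩ := Nat.exists_eq_pow_mul_and_not_dvd hb0 2 (by norm_num)
  have hb'0 : 0 < b' := by
    rcases Nat.eq_zero_or_pos b' with h0 | h0
    · rw [h0] at hb'
      exact absurd (dvd_zero 2) hb'
    · exact h0
  have hjl : j < l + 1 := by
    by_contra hcon
    have h1 : 2 ^ (l + 1) ≤ 2 ^ j := Nat.pow_le_pow_right (by norm_num) (not_lt.1 hcon)
    have h2 : 2 ^ j ≤ b := by
      rw [hj]
      exact Nat.le_mul_of_pos_right _ hb'0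
    omega
  have h1 : 2 ^ (k + e) ∣ a * b := by
    rw [h, pow_add, mul_comm c w]
    exact mul_dvd_mul hw hc
  have h2 : 2 ^ j * 2 ^ m ∣ 2 ^ j * (b' * a) := by
    have e1 : 2 ^ j * (b' * a) = a * b := by rw [hj]; ring
    rw [e1, ← pow_add]
    exact (pow_dvd_pow 2 (by omega)).trans h1
  have h3 : 2 ^ m ∣ b' * a := Nat.dvd_of_mul_dvd_mul_left (by positivity) h2
  have h4 : Nat.Coprime (2 ^ m) b' :=
    Nat.Coprime.pow_left m ((Nat.Prime.coprime_iff_not_dvd Nat.prime_two).2 hb')
  exact h4.dvd_of_dvd_mul_left h3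

theorem centralizer_subgroupOf {G : Type u} [Group G] {H : Subgroup G} {x : G} (hx : x ∈ H) :
    centralizer ({(⟨x, hx⟩ : H)} : Set H) = (centralizer ({x} : Set G)).subgroupOf H := by
  ext n
  rw [mem_subgroupOf, mem_centralizer_singleton_iff, mem_centralizer_singleton_iff]
  constructor
  · intro h2
    exact congrArg Subtype.val h2
  · intro h2
    exact Subtype.ext h2

/-- from the centraliser of `t` up to `G` -/
theorem dvd_index_up {G : Type u} [Group G] [Finite G] {t x : G} (hx : x ∈ centralizer ({t} : Set G))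
    {k e l m : ℕ}
    (hw : 2 ^ k ∣ (centralizer ({(⟨x, hx⟩ : centralizer ({t} : Set G))} :
      Set (centralizer ({t} : Set G)))).index)
    (hc : 2 ^ e ∣ (centralizer ({t} : Set G)).index)
    (hb : (centralizer ({t} : Set G)).relIndex (centralizer ({x} : Set G)) < 2 ^ (l + 1))
    (hm : m + l ≤ k + e) : 2 ^ m ∣ (centralizer ({x} : Set G)).index := by
  set K := centralizer ({x} : Set G) with hK
  set C := centralizer ({t} : Set G) with hC
  rw [centralizer_subgroupOf] at hw
  have h2 : (K ⊓ C).relIndex C * C.index = (K ⊓ C).index := relIndex_mul_index inf_le_right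
  have h3 : (K ⊓ C).relIndex K * K.index = (K ⊓ C).index := relIndex_mul_index inf_le_left
  rw [inf_relIndex_right] at h2
  rw [inf_relIndex_left] at h3
  have h4 : C.relIndex K ≠ 0 := index_ne_zero_of_finite
  refine dvd_of_mul (a := K.index) (b := C.relIndex K) (c := C.index) (w := K.relIndex C) ?_ h4 hb hc
    hw hm
  rw [mul_comm K.index, h3, ← h2, mul_comm]

theorem relIndex_le_index {G : Type u} [Group G] [Finite G] (C K : Subgroup G) :
    C.relIndex K ≤ C.index := by
  rw [← relIndex_top_right C]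
  exact relIndex_le_of_le_right le_top (by rw [relIndex_top_right]; exact index_ne_zero_of_finite)

theorem card_inf {G : Type u} [Group G] {t x : G} (hx : x ∈ centralizer ({t} : Set G)) :
    Nat.card ↥(centralizer ({x} : Set G) ⊓ centralizer ({t} : Set G)) *
      (centralizer ({(⟨x, hx⟩ : centralizer ({t} : Set G))} : Set (centralizer ({t} : Set G)))).index
      = Nat.card (centralizer ({t} : Set G)) := by
  rw [← Subgroup.card_mul_index (centralizer ({(⟨x, hx⟩ : centralizer ({t} : Set G))} :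
    Set (centralizer ({t} : Set G))))]
  congr 1
  rw [centralizer_subgroupOf]
  refine Nat.card_congr (Equiv.symm ?_)
  refine (Equiv.trans (subgroupOfEquivOfLe (H := centralizer ({x} : Set G) ⊓ centralizer ({t} : Set G))
    (K := centralizer ({t} : Set G)) inf_le_right).symm.toEquiv ?_).symm
  rw [inf_subgroupOf_right]

/-- an involution whose centraliser has order `2` mod `4` -/
theorem not_four {G : Type u} [Group G] [Finite G] {X : Subgroup G} {d : G} (hd : d ∈ X)
    (hd2 : orderOf d = 2) (h : ¬ 4 ∣ Nat.card ↥(X ⊓ centralizer ({d} : Set G))) : ¬ 4 ∣ Nat.card X := by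
  intro h4
  have hf : Fact (Nat.Prime 2) := ⟨Nat.prime_two⟩
  have hc : Nat.card (zpowers (⟨d, hd⟩ : X)) = 2 ^ 1 := by
    rw [Nat.card_zpowers, orderOf_mk, hd2, pow_one]
  obtain ⟨K, hK, hle⟩ := Sylow.exists_subgroup_card_pow_succ (G := X) (p := 2) (n := 1)
    (by simpa only [_root_.Nat.reduceAdd, _root_.Nat.reducePow] using h4) hc
  have hcomm : ∀ a b : K, a * b = b * a := by
    have := IsPGroup.isMulCommutative_of_card_eq_prime_sq (G := K) (p := 2) (by simpa only [_root_.Nat.reducePow, _root_.Nat.reduceAdd] using hK)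
    exact fun a b => this.is_comm.comm a b
  apply h
  have h1 : K.map X.subtype ≤ X ⊓ centralizer ({d} : Set G) := by
    rintro _ ⟨k, hk, rfl⟩
    refine mem_inf.2 ⟨k.2, ?_⟩
    rw [mem_centralizer_singleton_iff]
    have := hcomm ⟨k, hk⟩ ⟨⟨d, hd⟩, hle (mem_zpowers _)⟩
    exact congrArg (fun y => ((y : K) : X).1) this
  have h2 : Nat.card (K.map X.subtype) = 4 := by
    rw [← Nat.card_congr (K.equivMapOfInjective X.subtype X.subtype_injective).toEquiv, hK]
    norm_num
  rw [← h2]
  exact card_dvd_of_le h1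

end Cfsg.Agent.H657.FourFi
end

-- part: H657/FourFi/Fi22
section
/-!
# `U₆(2)` and `Fi22`: the elements of order seven
-/

set_option autoImplicit false

open Cfsg

namespace Cfsg.Agent.H657.FourFi

open Cfsg.Agent.Blocks.LocalRing
open Cfsg.Agent.Blocks
open Cfsg.Agent.Characters.Core
open Cfsg.Agent.H652.Four
open Subgroup

universe u v

section psu

variable {F : Type*} [Field F] [Fintype F]

theorem not_sq_psu (hF : Fintype.card F = 4) : ¬ 7 ^ 2 ∣ Nat.card (PSU 6 F 2) := by
  rw [H732.USix.card_psu6 hF]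
  norm_num

theorem sev_psu (hF : Fintype.card F = 4) : Sev 7 (PSU 6 F 2) := by
  have hfin : Finite (PSU 6 F 2) :=
    Nat.finite_of_card_ne_zero (by rw [H732.USix.card_psu6 hF]; norm_num)
  have h2 : Fact (Nat.Prime 2) := ⟨Nat.prime_two⟩
  have hchar : CharP F 2 := by
    obtain ⟨p, hp⟩ := CharP.exists F
    obtain ⟨n, hp', hn⟩ := FiniteField.card F p
    rw [hF] at hn
    have h1 : p ∣ 4 := by
      rw [hn]
      exact dvd_pow_self p n.ne_zero
    have h3 : p ∣ 2 ^ 2 := by simpa using h1
    have h4 : p = 2 := (Nat.prime_dvd_prime_iff_eq hp' Nat.prime_two).1 (hp'.dvd_of_dvd_pow h3)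
    rwa [h4] at hp
  refine sev_of_steinberg (a := 15) (m := 40095) (not_sq_psu hF)
    (fun x hx => H559.USixSpec.seven hF x hx) ?_ (by norm_num) (by norm_num) (by norm_num) ?_
  · rw [H732.USix.card_psu6 hF]
    norm_num
  · obtain ⟨χ, hχ, hP⟩ := S2546.result (F := F) 2 6 2 (by norm_num) (by rw [hF]; norm_num)
    refine ⟨χ, hχ, ?_⟩
    obtain ⟨P⟩ : Nonempty (Sylow 2 (PSU 6 F 2)) := inferInstance
    rw [(hP P).1]
    congr 1
    rw [P.card_eq_multiplicity, H732.USix.card_psu6 hF]
    have e : (9196830720 : ℕ) = 2 ^ 15 * 280665 := by norm_num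
    rw [e, Nat.factorization_mul (by norm_num) (by norm_num), Nat.Prime.factorization_pow Nat.prime_two,
      Finsupp.add_apply, Finsupp.single_eq_same, Nat.factorization_eq_zero_of_not_dvd (by norm_num)]

/-- the class of elements of order seven has length `2^15 * 40095` -/
theorem index_psu (hF : Fintype.card F = 4) {x : PSU 6 F 2} (hx : orderOf x = 7) :
    (centralizer ({x} : Set (PSU 6 F 2))).index = 2 ^ 15 * 40095 := by
  have hfin : Finite (PSU 6 F 2) :=
    Nat.finite_of_card_ne_zero (by rw [H732.USix.card_psu6 hF]; norm_num)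
  have h1 := (centralizer ({x} : Set (PSU 6 F 2))).card_mul_index
  rw [card_cent (by norm_num) (not_sq_psu hF) (fun x hx => H559.USixSpec.seven hF x hx) hx,
    H732.USix.card_psu6 hF] at h1
  omega

end psu

section CQ

open Cfsg.Agent.Schreier.Step Cfsg.Agent.Schreier.FiCommon

/-- the kernel of the projection of the centraliser of an involution -/
theorem ker_cq {G : Type u} [Group G] {z : G} (hz : z * z = 1) {Q : Type v} [Group Q]
    {f : centralizer ({z} : Set G) →* Q} (h : CQ _ z f) :
    f.ker ≤ center (centralizer ({z} : Set G)) ∧ IsPGroup 2 f.ker := by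
  constructor
  · intro x hx
    rw [mem_center_iff]
    intro g
    rcases eq_of_mem_zpowers hz ((h.ker x).1 hx) with h1 | h1
    · have : x = 1 := Subtype.ext h1
      rw [this, mul_one, one_mul]
    · apply Subtype.ext
      show (g : G) * x = x * g
      rw [h1]
      exact mem_centralizer_singleton_iff.1 g.2
  · rintro ⟨x, hx⟩
    refine ⟨1, ?_⟩
    apply Subtype.ext
    apply Subtype.ext
    show (x : G) ^ 2 ^ 1 = 1
    rw [pow_one, pow_two]
    rcases eq_of_mem_zpowers hz ((h.ker x).1 hx) with h1 | h1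
    · rw [h1, mul_one]
    · rw [h1, hz]

/-- `⟨z⟩` -/
theorem centralizer_zpowers {G : Type u} [Group G] (z : G) :
    centralizer (zpowers z : Set G) = centralizer ({z} : Set G) := by
  rw [zpowers_eq_closure, centralizer_closure]

/-- from the quotient of the centraliser of an involution -/
theorem sev_cent {G : Type u} [Group G] [Finite G] {z : G} (hz : z * z = 1) {Q : Type v} [Group Q]
    {f : centralizer ({z} : Set G) →* Q} (h : CQ _ z f) {r : ℕ} (hr : r.Prime) (hr2 : r ≠ 2)
    (hQ : Sev r Q) : Sev r (centralizer ({z} : Set G)) :=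
  Sev.of_quot hr hr2 h.surj (ker_cq hz h).1 (ker_cq hz h).2 hQ

/-- ... and up to `G` -/
theorem sev_up {G : Type u} [Group G] [Finite G] {z : G} (hz : z * z = 1) {r : ℕ} (hr : r.Prime)
    (h2 : ¬ r ^ 2 ∣ Nat.card G) (h : Sev r (centralizer ({z} : Set G))) : Sev r G := by
  have e := centralizer_zpowers z
  have hp : IsPGroup 2 (zpowers z) := by
    rintro ⟨x, hx⟩
    refine ⟨1, ?_⟩
    apply Subtype.ext
    show x ^ 2 ^ 1 = 1
    rw [pow_one, pow_two]
    rcases eq_of_mem_zpowers hz hx with h1 | h1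
    · rw [h1, mul_one]
    · rw [h1, hz]
  refine Sev.of_cent hr h2 hp ?_ ?_
  · rw [e, zpowers_le, mem_centralizer_singleton_iff]
  · rw [e]
    exact h

end CQ

section fi22

open Cfsg.Agent.Fischer.Abstract Cfsg.Agent.Fischer.Centralizer
  Cfsg.Agent.Fischer.Group22 Cfsg.Agent.Fischer.Rank22 Cfsg.Agent.Fischer.Unit22 Cfsg.Agent.SporRec.GF4
  Cfsg.Agent.Schreier.Step Cfsg.Agent.Schreier.FiCommon

theorem fi22_both : Sev 7 G ∧ Dv 7 16 G := by
  have hfin : Finite G := Nat.finite_of_card_ne_zero (by rw [Cfsg.Agent.Fischer.Order22.card_G]; norm_num)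
  have hcC := Cfsg.Agent.Fischer.Order22.card_C
  have hcG := Cfsg.Agent.Fischer.Order22.card_G
  set d : G := R.t R.x0 with hd
  have hdd : d * d = 1 := R.sq
  have hd1 : d ≠ 1 := R.t_x0_ne_one
  obtain ⟨f, hf⟩ := cq_of_cover hd1 _root_.Cfsg.Agent.Fischer.Unit22.isNonsplitDoubleCover_C
  have h7 : Nat.Prime 7 := by norm_num
  have hsev := sev_cent hdd hf h7 (by norm_num) (sev_psu hF)
  have hn : ¬ 7 ^ 2 ∣ Nat.card G := by
    rw [hcG]
    norm_num
  have hup := sev_up hdd h7 hn hsev
  refine ⟨hup, ?_⟩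
  intro y hy
  -- an element of order seven of the centraliser
  obtain ⟨x, hx⟩ := hsev.ex
  have hxo : orderOf (x : G) = 7 := by rw [orderOf_coe, hx]
  have hxC : (x : G) ∈ centralizer ({d} : Set G) := x.2
  obtain ⟨c, hc⟩ := isConj_iff.1 (hup.conj _ _ hxo hy)
  have hidx : (centralizer ({y} : Set G)).index = (centralizer ({(x : G)} : Set G)).index := by
    have h1 := index_centralizer_equiv (MulAut.conj c) (x : G)
    rw [MulAut.conj_apply, hc] at h1
    exact h1.symm
  rw [hidx]
  have h1 : (centralizer ({x} : Set (centralizer ({d} : Set G)))).index = 2 ^ 15 * 40095 := by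
    rw [index_quot h7 (by norm_num) hf.surj (ker_cq hdd hf).1 (ker_cq hdd hf).2 hx]
    exact index_psu hF (orderOf_image h7 (by norm_num) (ker_cq hdd hf).2 hx)
  have h2 := card_inf hxC
  rw [show (⟨(x : G), hxC⟩ : centralizer ({d} : Set G)) = x from rfl, h1] at h2
  have h3 : Nat.card (centralizer ({d} : Set G)) = 18393661440 := hcC
  rw [h3] at h2
  have h4 : ¬ 4 ∣ Nat.card ↥(centralizer ({(x : G)} : Set G) ⊓ centralizer ({d} : Set G)) := by
    have : Nat.card ↥(centralizer ({(x : G)} : Set G) ⊓ centralizer ({d} : Set G)) = 14 := by omega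
    rw [this]
    norm_num
  have h5 := not_four (X := centralizer ({(x : G)} : Set G)) (d := d)
    (mem_centralizer_singleton_iff.2 (mem_centralizer_singleton_iff.1 hxC).symm) (R.orderOf_t _) h4
  have h6 := (centralizer ({(x : G)} : Set G)).card_mul_index
  rw [hcG] at h6
  have h8 : 2 ^ 17 ∣ Nat.card (centralizer ({(x : G)} : Set G)) *
      (centralizer ({(x : G)} : Set G)).index := by
    rw [h6]
    norm_num
  refine dvd_of_mul (a := (centralizer ({(x : G)} : Set G)).index)
    (b := 2 ^ (Nat.card (centralizer ({(x : G)} : Set G))).factorization 2)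
    (c := 1) (w := 2 ^ (Nat.card (centralizer ({(x : G)} : Set G))).factorization 2 *
      (centralizer ({(x : G)} : Set G)).index) (k := 17) (l := 1) (e := 0) ?_ (by positivity) ?_
      (by norm_num) ?_ (by norm_num)
  · ring
  · have h9 : (Nat.card (centralizer ({(x : G)} : Set G))).factorization 2 < 2 := by
      by_contra hcon
      apply h5
      exact (pow_dvd_pow 2 (not_lt.1 hcon)).trans (Nat.ordProj_dvd _ _)
    exact Nat.pow_lt_pow_right (by norm_num) h9
  · have h10 := Nat.ordProj_mul_ordCompl_eq_self (Nat.card (centralizer ({(x : G)} : Set G))) 2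
    have h11 : Nat.Coprime (2 ^ 17)
        (ordCompl[2] (Nat.card (centralizer ({(x : G)} : Set G)))) :=
      Nat.Coprime.pow_left 17 (Nat.coprime_ordCompl Nat.prime_two Nat.card_pos.ne')
    rw [← h10, mul_assoc, mul_left_comm] at h8
    exact h11.dvd_of_dvd_mul_left h8

theorem sev_fi22 : Sev 7 Spor.Fi22 := by
  have hfin : Finite Spor.Fi22 := by
    have hfin : Finite G := Nat.finite_of_card_ne_zero (by rw [Cfsg.Agent.Fischer.Order22.card_G]; norm_num)
    exact Finite.of_equiv G Cfsg.Agent.SporRec.Fi22Iso.ψe.symm.toEquiv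
  exact fi22_both.1.of_equiv Cfsg.Agent.SporRec.Fi22Iso.ψe

theorem dv_fi22 : Dv 7 16 Spor.Fi22 := fi22_both.2.of_equiv Cfsg.Agent.SporRec.Fi22Iso.ψe

end fi22

/-- **`Fi22`.** -/
theorem loc_Fi22 {S : Type u} [Group S] [Finite S] (h : Cfsg.Spor.IsoFi22 S) : Loc S := by
  obtain ⟨e⟩ := h
  exact loc_of (sev_fi22.of_equiv e) (dv_fi22.of_equiv e) (by norm_num)

end Cfsg.Agent.H657.FourFi
end
end

-- part: H657/FourFi/Fi24
section
set_option linter.all false
open scoped Cfsg.Agent.FastGrp

/-!
# `Fi24'`: an element of order seven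

`t` = product of two commuting transpositions `a`, `b`; `C(t)` has the normal subgroup `C(a, b)` (double cover of
`Fi22`), which contains all elements of odd order.
-/

set_option autoImplicit false

open Cfsg

namespace Cfsg.Agent.H657.FourFi

open Cfsg.Agent.Blocks.LocalRing
open Cfsg.Agent.Blocks
open Cfsg.Agent.Characters.Core
open Cfsg.Agent.H652.Four
open Subgroup
open Cfsg.Agent.R08.FiTwentyFour Cfsg.Agent.CTwoTab.FiTF
open Cfsg.Spor (Fi24 Fi22)

local notation "Pr" => Cfsg.Agent.R08.TetFi24A.At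

universe u v

theorem loc_equiv {G : Type u} [Group G] [Finite G] {Q : Type v} [Group Q] (e : G ≃* Q) (h : Loc Q) :
    Loc G := by
  obtain ⟨x, hx, hM⟩ := h
  refine ⟨e.symm x, ?_, fun M h2 => NN.of_equiv e ?_⟩
  · rw [index_centralizer_equiv e, e.apply_symm_apply]
    exact hx
  · rw [e.apply_symm_apply]
    exact hM M h2

section pair

variable {a b : Fi24}

theorem zz_pair (P : Pr a b) : P.z * P.z = 1 := by
  apply Subtype.ext
  show (P.z : Fi24) * (P.z : Fi24) = 1
  have h1 : a * b = b * a := P.ab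
  rw [P.hz]
  calc a * b * (a * b) = a * (b * a) * b := by group
    _ = a * a * (b * b) := by rw [← h1]; group
    _ = 1 := by rw [Cfsg.Agent.R08.FiTwentyFour.sq P.ha, Cfsg.Agent.R08.FiTwentyFour.sq P.hb, one_mul]

theorem isPGroup_ker (P : Pr a b) : IsPGroup 2 P.π.ker := by
  rintro ⟨x, hx⟩
  refine ⟨1, ?_⟩
  apply Subtype.ext
  show x ^ 2 ^ 1 = 1
  rw [pow_one, pow_two]
  rw [MonoidHom.mem_ker, P.lift.ext.ker] at hx
  rcases hx with rfl | rfl
  · rw [mul_one]
  · exact zz_pair P

theorem sev_Cab (P : Pr a b) : Sev 7 (Cab a b) := by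
  have := finite_Fi24
  exact Sev.of_quot (by norm_num) (by norm_num) P.lift.ext.surj (ker_le P) (isPGroup_ker P) sev_fi22

theorem dv_Cab (P : Pr a b) : Dv 7 16 (Cab a b) :=
  Dv.of_quot (by norm_num) (by norm_num) P.lift.ext.surj (ker_le P) (isPGroup_ker P) dv_fi22

/-- conjugation by an element of `C(t)` -/
theorem conj_mem_N (P : Pr a b) {t c n : Spor.Fi24'} (ht : (t : Fi24) = a * b)
    (hc : c ∈ centralizer ({t} : Set Spor.Fi24')) (hn : n ∈ N a b) : c * n * c⁻¹ ∈ N a b := by
  rw [mem_N, mem_Cab] at hn ⊢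
  obtain ⟨-, h1, h2⟩ := hn
  have key : ∀ u v : Fi24, (c : Fi24) * u * (c : Fi24)⁻¹ = v → (n : Fi24) * u = u * n →
      ((c * n * c⁻¹ : Spor.Fi24') : Fi24) * v = v * ((c * n * c⁻¹ : Spor.Fi24') : Fi24) := by
    rintro u _ rfl h
    show (c : Fi24) * n * (c : Fi24)⁻¹ * (c * u * (c : Fi24)⁻¹) =
      c * u * (c : Fi24)⁻¹ * (c * n * (c : Fi24)⁻¹)
    calc (c : Fi24) * n * (c : Fi24)⁻¹ * (c * u * (c : Fi24)⁻¹) = c * (n * u) * (c : Fi24)⁻¹ := by group
      _ = c * (u * n) * (c : Fi24)⁻¹ := by rw [h]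
      _ = _ := by group
  refine ⟨mem_commutator_iff.1 (c * n * c⁻¹ : Spor.Fi24').2, ?_⟩
  rcases fix_or_swap P ht hc with ⟨h3, h4⟩ | ⟨h3, h4⟩
  · exact ⟨key a a h3 h1, key b b h4 h2⟩
  · exact ⟨key b a h4 h2, key a b h3 h1⟩

/-- the elements of order seven of `C(t)` -/
theorem seven_mem_N (P : Pr a b) {t x : Spor.Fi24'} (ht : (t : Fi24) = a * b)
    (hx : x ∈ centralizer ({t} : Set Spor.Fi24')) (h7 : orderOf x = 7) : x ∈ N a b := by
  rw [mem_N, mem_Cab]
  refine ⟨mem_commutator_iff.1 x.2, ?_⟩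
  have hx7 : (x : Fi24) ^ 7 = 1 := by
    have h1 : x ^ 7 = 1 := by rw [← h7]; exact pow_orderOf_eq_one x
    exact congrArg Subtype.val h1
  rcases fix_or_swap P ht hx with ⟨h3, h4⟩ | ⟨h3, h4⟩
  · exact ⟨mul_inv_eq_iff_eq_mul.1 h3, mul_inv_eq_iff_eq_mul.1 h4⟩
  · exfalso
    have h5 : Commute ((x : Fi24) ^ 2) a := by
      show (x : Fi24) ^ 2 * a = a * (x : Fi24) ^ 2
      rw [← mul_inv_eq_iff_eq_mul]
      calc (x : Fi24) ^ 2 * a * ((x : Fi24) ^ 2)⁻¹ = x * (x * a * (x : Fi24)⁻¹) * (x : Fi24)⁻¹ := by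
            rw [pow_two, mul_inv_rev]
            simp only [mul_assoc]
        _ = a := by rw [h3, h4]
    have h6 : Commute (x : Fi24) a := by
      have h7 := h5.pow_left 4
      have h8 : ((x : Fi24) ^ 2) ^ 4 = x := by
        rw [← pow_mul, show 2 * 4 = 7 + 1 from rfl, pow_succ, hx7, one_mul]
      rwa [h8] at h7
    apply P.ne
    rw [← h3]
    exact (mul_inv_eq_iff_eq_mul.2 h6.eq).symm

end pair

theorem loc_fi24 : Loc Spor.Fi24' := by
  have hfin := finite_Fi24
  have hfin' : Finite Spor.Fi24' := inferInstance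
  have h := KFacts.FiTF.Tet.isTet (t := 0) (by norm_num)
  generalize KFacts.FiTF.Defs.D 0 0 = a at h
  generalize KFacts.FiTF.Defs.D 0 1 = b at h
  obtain ⟨P⟩ := R08.TetFi24A.exists_at h.ha h.hb h.nab h.ab
  set t : Spor.Fi24' := ⟨a * b, Cfsg.Agent.R08.FiTwentyFour.even h.ha h.hb⟩ with htdef
  have ht : (t : Fi24) = a * b := rfl
  set C := centralizer ({t} : Set Spor.Fi24') with hC
  have hN : N a b ≤ C := N_le ht
  have hnorm : ((N a b).subgroupOf C).Normal := ⟨fun n hn c => by
    rw [mem_subgroupOf] at hn ⊢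
    exact conj_mem_N P ht c.2 hn⟩
  have hmem : ∀ x : C, orderOf x = 7 → x ∈ (N a b).subgroupOf C := by
    intro x hx
    rw [mem_subgroupOf]
    exact seven_mem_N P ht x.2 (by rw [orderOf_coe, hx])
  have e : ↥((N a b).subgroupOf C) ≃* ↥(Cab a b) := (subgroupOfEquivOfLe hN).trans (eN a b)
  have hsC : Sev 7 C := Sev.of_normal hmem ((sev_Cab P).of_equiv e)
  have hdC : Dv 7 16 C := Dv.of_normal hmem ((dv_Cab P).of_equiv e)
  have htt : t * t = 1 := by
    apply Subtype.ext
    have h1 := zz_pair P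
    have h2 := congrArg Subtype.val h1
    show (t : Fi24) * (t : Fi24) = 1
    rw [ht, ← P.hz]
    exact h2
  obtain ⟨x, hx⟩ := hsC.ex
  have hxo : orderOf (x : Spor.Fi24') = 7 := by rw [orderOf_coe, hx]
  have hxN := hmem x hx
  rw [mem_subgroupOf, mem_N, mem_Cab] at hxN
  refine ⟨(x : Spor.Fi24'), ?_, fun M hM => ?_⟩
  · -- the number of conjugates of `t` under `C(x)`
    have hxo' : orderOf ((x : Spor.Fi24') : Fi24) = 7 := by rw [orderOf_coe, hxo]
    obtain ⟨T, hT⟩ := CpAutFiSeven.tri hxo' h.ha hxN.2.1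
    have hb : C.relIndex (centralizer ({(x : Spor.Fi24')} : Set Spor.Fi24')) < 2 ^ (11 + 1) := by
      refine lt_of_le_of_lt (relIndex_le_of_conj (t := t)
        (s := {y : Spor.Fi24' | (y : Fi24) ∈ Set.range
          (fun p : (Fin 7 × Fin 7) × (Fin 7 × Fin 7) => T p.1.1 p.1.2 * T p.2.1 p.2.2)}) ?_) ?_
      · intro c hc
        have hcx : (x : Fi24) * (c : Fi24) = c * x := by
          exact congrArg Subtype.val (mem_centralizer_singleton_iff.1 hc).symm
        have key : ∀ d : Fi24, d ∈ L → ((x : Spor.Fi24') : Fi24) * d = d * x →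
            ∃ i j, (c : Fi24) * d * (c : Fi24)⁻¹ = T i j := by
          intro d hd hxd
          obtain ⟨i, j, -, hij⟩ := hT.surj ((c : Fi24) * d * (c : Fi24)⁻¹)
            (Cfsg.Agent.R08.FiTwentyFour.conj hd c) (by
              calc (x : Fi24) * (c * d * (c : Fi24)⁻¹) = (x * c) * d * (c : Fi24)⁻¹ := by group
                _ = c * (x * d) * (c : Fi24)⁻¹ := by rw [hcx]; group
                _ = c * d * (x * (c : Fi24)⁻¹) := by rw [hxd]; group
                _ = c * d * ((c : Fi24)⁻¹ * x) := by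
                  congr 1
                  rw [eq_inv_mul_iff_mul_eq, ← mul_assoc, ← hcx, mul_assoc, mul_inv_cancel, mul_one]
                _ = _ := by group)
          exact ⟨i, j, hij⟩
        obtain ⟨i, j, h1⟩ := key a h.ha hxN.2.1
        obtain ⟨k, l, h2⟩ := key b h.hb hxN.2.2
        refine ⟨((i, j), (k, l)), ?_⟩
        show T i j * T k l = (c : Fi24) * (a * b) * (c : Fi24)⁻¹
        rw [← h1, ← h2]
        group
      · have h1 : ({y : Spor.Fi24' | (y : Fi24) ∈ Set.range
            (fun p : (Fin 7 × Fin 7) × (Fin 7 × Fin 7) => T p.1.1 p.1.2 * T p.2.1 p.2.2)}).ncard ≤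
            (Set.range (fun p : (Fin 7 × Fin 7) × (Fin 7 × Fin 7) =>
              T p.1.1 p.1.2 * T p.2.1 p.2.2)).ncard :=
          Set.ncard_le_ncard_of_injOn (fun y : Spor.Fi24' => (y : Fi24)) (fun y hy => hy)
            (fun y _ z _ hyz => Subtype.ext hyz) (Set.toFinite _)
        refine lt_of_le_of_lt h1 ?_
        rw [← Set.image_univ]
        refine lt_of_le_of_lt (Set.ncard_image_le Set.finite_univ) ?_
        rw [Set.ncard_univ]
        simp
    have h4 := dvd_index_up (t := t) (x := (x : Spor.Fi24')) (k := 16) (e := 0) (l := 11) (m := 2) x.2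
      (hdC x hx) (by norm_num) hb (by norm_num)
    simpa using h4
  · have e := centralizer_zpowers t
    have hp : IsPGroup 2 (zpowers t) := by
      rintro ⟨y, hy⟩
      refine ⟨1, ?_⟩
      apply Subtype.ext
      show y ^ 2 ^ 1 = 1
      rw [pow_one, pow_two]
      rcases Cfsg.Agent.Schreier.FiCommon.eq_of_mem_zpowers htt hy with h1 | h1
      · rw [h1, mul_one]
      · rw [h1, htt]
    refine Sev.nn_of_cent hp ?_ ?_ hM hxo ?_
    · rw [e, zpowers_le, mem_centralizer_singleton_iff]
    · rw [e]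
      exact hsC
    · rw [e]
      exact x.2

/-- **`Fi24'`.** -/
theorem loc_Fi24 {S : Type u} [Group S] [Finite S] (h : Cfsg.Spor.IsoFi24' S) : Loc S := by
  obtain ⟨e⟩ := h
  exact loc_equiv e loc_fi24

end Cfsg.Agent.H657.FourFi
end

-- part: H657/FourFi/Fi23
section
set_option linter.all false
open scoped Cfsg.Agent.FastGrp

/-!
# `Fi23`: the elements of order seven
-/

set_option autoImplicit false
set_option linter.constructorNameAsVariable false
set_option maxRecDepth 10000

open Cfsg

namespace Cfsg.Agent.H657.FourFi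

open Cfsg.Agent.Blocks.LocalRing
open Cfsg.Agent.Blocks
open Cfsg.Agent.Characters.Core
open Cfsg.Agent.H652.Four
open Subgroup
open Cfsg.Agent.Schreier.Step Cfsg.Agent.Schreier.FiCommon

universe u v

/-- the order of the centraliser -/
theorem card_cq {G : Type u} [Group G] {z : G} {Q : Type v} [Group Q]
    {f : centralizer ({z} : Set G) →* Q} (h : CQ _ z f) :
    Nat.card (centralizer ({z} : Set G)) = orderOf z * Nat.card Q := by
  rw [← f.ker.card_mul_index, Subgroup.index_ker, MonoidHom.range_eq_top.2 h.surj, Subgroup.card_top]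
  congr 1
  rw [← Nat.card_zpowers]
  have e : f.ker.map (centralizer ({z} : Set G)).subtype = zpowers z := by
    ext y
    constructor
    · rintro ⟨x, hx, rfl⟩
      exact (h.ker x).1 hx
    · intro hy
      have hy' : y ∈ centralizer ({z} : Set G) :=
        (zpowers_le.2 h.mem : zpowers z ≤ centralizer ({z} : Set G)) hy
      exact ⟨⟨y, hy'⟩, (h.ker _).2 hy, rfl⟩
  rw [← e]
  exact Nat.card_congr (f.ker.equivMapOfInjective _ (subtype_injective _)).toEquiv

theorem card_fi22 : Nat.card Spor.Fi22 = 64561751654400 := by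
  rw [← Cfsg.Agent.Fischer.Order22.card_G]
  exact Nat.card_congr Cfsg.Agent.SporRec.Fi22Iso.ψe.toEquiv

/-- `Dv` one step up -/
theorem dv_up {G : Type u} [Group G] [Finite G] {z : G} {r k e l m : ℕ}
    (hsev : Sev r G) (hex : ∃ x : centralizer ({z} : Set G), orderOf x = r)
    (hk : Dv r k (centralizer ({z} : Set G)))
    (he : 2 ^ e ∣ (centralizer ({z} : Set G)).index)
    (hl : (centralizer ({z} : Set G)).index < 2 ^ (l + 1))
    (hm : m + l ≤ k + e) : Dv r m G := by
  intro y hy
  obtain ⟨x, hx⟩ := hex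
  have hxo : orderOf (x : G) = r := by rw [orderOf_coe, hx]
  obtain ⟨c, hc⟩ := isConj_iff.1 (hsev.conj _ _ hxo hy)
  have hidx : (centralizer ({y} : Set G)).index = (centralizer ({(x : G)} : Set G)).index := by
    have h1 := index_centralizer_equiv (MulAut.conj c) (x : G)
    rw [MulAut.conj_apply, hc] at h1
    exact h1.symm
  rw [hidx]
  exact dvd_index_up (t := z) x.2 (hk x hx) he (lt_of_le_of_lt (relIndex_le_index _ _) hl) hm

theorem fi23_both : Sev 7 Spor.Fi23 ∧ Dv 7 2 Spor.Fi23 := by
  have hcG := Cfsg.Agent.Fischer.Fi23Simple.card_Fi23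
  have hfin : Finite Spor.Fi23 := Nat.finite_of_card_ne_zero (by rw [hcG]; norm_num)
  have hz : Cfsg.Agent.Fischer.Fi23Z.z0 * Cfsg.Agent.Fischer.Fi23Z.z0 = 1 :=
    congrArg Subtype.val R08.FiTwentyThree.zz
  have hz1 : Cfsg.Agent.Fischer.Fi23Z.z0 ≠ 1 := by
    intro h
    apply Cfsg.Agent.Fischer.Fi23Class.z0_ncomm
    rw [h, one_mul, mul_one]
  have h7 : Nat.Prime 7 := by norm_num
  have hcq := Cfsg.Agent.Schreier.FiTwentyThree.cq
  have hsev := sev_cent hz hcq h7 (by norm_num) sev_fi22
  have hup := sev_up hz h7 (by rw [hcG]; norm_num) hsev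
  refine ⟨hup, ?_⟩
  have hcard := card_cq hcq
  rw [card_fi22, orderOf_eq_prime (by rw [pow_two, hz]) hz1] at hcard
  have hidx := (centralizer ({Cfsg.Agent.Fischer.Fi23Z.z0} : Set Spor.Fi23)).card_mul_index
  rw [hcard, hcG] at hidx
  have hidx' : (centralizer ({Cfsg.Agent.Fischer.Fi23Z.z0} : Set Spor.Fi23)).index = 31671 := by omega
  refine dv_up (k := 16) (e := 0) (l := 14) hup hsev.ex ?_ (by norm_num) (by rw [hidx']; norm_num)
    (by norm_num)
  exact Dv.of_quot h7 (by norm_num) hcq.surj (ker_cq hz hcq).1 (ker_cq hz hcq).2 dv_fi22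

/-- **`Fi23`.** -/
theorem loc_Fi23 {S : Type u} [Group S] [Finite S] (h : Cfsg.Spor.IsoFi23 S) : Loc S := by
  obtain ⟨e⟩ := h
  exact loc_of (fi23_both.1.of_equiv e) (fi23_both.2.of_equiv e) (by norm_num)

end Cfsg.Agent.H657.FourFi
end
end
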